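import Cfsg.Agent.GLOrders.Primary
import Cfsg.Agent.GLOrders.CharpolyExponent
import Mathlib.Data.ZMod.Basic
import Mathlib.GroupTheory.OrderOfElement

/-! Tools for prime graphs of groups of Lie type: orders of roots, lifts of elements. -/

set_option autoImplicit false

namespace CfsgLib.GraphLie

open Polynomial UniqueFactorizationMonoid

theorem orderOf_zmod_pos {r q : ℕ} [Fact r.Prime] (hrq : ¬ r ∣ q) : 1 ≤ orderOf ((q : ℕ) : ZMod r) := by
  have h0 : ((q : ℕ) : ZMod r) ≠ 0 := fun h => hrq ((ZMod.natCast_eq_zero_iff q r).mp h)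
  have h1 : IsOfFinOrder ((q : ℕ) : ZMod r) := by
    rw [isOfFinOrder_iff_pow_eq_one]
    refine ⟨r - 1, ?_, ZMod.pow_card_sub_one_eq_one h0⟩
    have := (Fact.out : r.Prime).two_le; omega
  exact h1.orderOf_pos

theorem dvd_pow_sub_one_iff {r q : ℕ} [Fact r.Prime] (hrq : ¬ r ∣ q) (d : ℕ) :
    r ∣ q ^ d - 1 ↔ orderOf ((q : ℕ) : ZMod r) ∣ d := by
  have hq : 1 ≤ q := Nat.one_le_iff_ne_zero.mpr fun h => hrq (h ▸ dvd_zero r)
  rw [← ZMod.natCast_eq_zero_iff, Nat.cast_sub (Nat.one_le_pow _ _ hq), Nat.cast_pow, Nat.cast_one, sub_eq_zero,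
    orderOf_dvd_iff_pow_eq_one]

theorem dvd_pow_add_one {r q : ℕ} [Fact r.Prime] (hr2 : r ≠ 2) (hrq : ¬ r ∣ q) {d : ℕ} (h : r ∣ q ^ d + 1) :
    Even (orderOf ((q : ℕ) : ZMod r)) ∧ ∃ t, Odd t ∧ d = orderOf ((q : ℕ) : ZMod r) / 2 * t := by
  set k := orderOf ((q : ℕ) : ZMod r) with hk
  have hq : 1 ≤ q := Nat.one_le_iff_ne_zero.mpr fun h => hrq (h ▸ dvd_zero r)
  have hr : r.Prime := Fact.out
  have h2d : k ∣ 2 * d := by
    rw [hk, ← dvd_pow_sub_one_iff hrq]
    refine h.trans ⟨q ^ d - 1, ?_⟩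
    rw [← Nat.sq_sub_sq, one_pow, ← pow_mul, mul_comm d 2]
  have hnd : ¬ k ∣ d := by
    rw [hk, ← dvd_pow_sub_one_iff hrq]
    intro h1
    have h3 := Nat.dvd_sub h h1
    rw [show q ^ d + 1 - (q ^ d - 1) = 2 by have := Nat.one_le_pow d q hq; omega] at h3
    exact hr2 ((Nat.prime_dvd_prime_iff_eq hr Nat.prime_two).mp h3)
  have heven : Even k := by
    by_contra ho
    rw [Nat.not_even_iff_odd] at ho
    exact hnd ((Nat.coprime_two_right.mpr ho).dvd_of_dvd_mul_left h2d)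
  obtain ⟨j, hj⟩ := heven
  obtain ⟨t, ht⟩ := h2d
  refine ⟨⟨j, hj⟩, t, ?_, ?_⟩
  · rcases Nat.even_or_odd t with ⟨s, hs⟩ | ho
    · exfalso
      refine hnd ⟨s, ?_⟩
      rw [hs, Nat.mul_add] at ht; omega
    · exact ho
  · rw [hj] at ht ⊢
    rw [show (j + j) / 2 = j by omega]
    rw [Nat.add_mul] at ht; omega

theorem dvd_pow_add_one_of {r q : ℕ} [Fact r.Prime] (hrq : ¬ r ∣ q) {t : ℕ} (ht : Odd t)
    (hk : Even (orderOf ((q : ℕ) : ZMod r))) : r ∣ q ^ (orderOf ((q : ℕ) : ZMod r) / 2 * t) + 1 := by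
  obtain ⟨j, hj⟩ := hk
  set x := ((q : ℕ) : ZMod r) with hx
  rw [← ZMod.natCast_eq_zero_iff, Nat.cast_add, Nat.cast_pow, Nat.cast_one, ← hx, hj,
    show (j + j) / 2 = j by omega, pow_mul]
  have h1 : x ^ j * x ^ j = 1 := by rw [← pow_add, ← hj, pow_orderOf_eq_one]
  have hpos := orderOf_zmod_pos (r := r) hrq
  rw [← hx, hj] at hpos
  have h2 : x ^ j ≠ 1 := by
    intro h
    have h3 := Nat.le_of_dvd (by omega) (orderOf_dvd_of_pow_eq_one h)
    rw [hj] at h3
    omega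
  rw [(mul_self_eq_one_iff.mp h1).resolve_left h2, ht.neg_one_pow, neg_add_cancel]

theorem dvd_X_pow_gcd {F : Type*} [Field F] {f : F[X]} {a b : ℕ} (ha : f ∣ X ^ a - 1)
    (hb : f ∣ X ^ b - 1) : f ∣ X ^ Nat.gcd a b - 1 := by
  rw [← AdjoinRoot.mk_eq_zero, map_sub, map_pow, AdjoinRoot.mk_X, map_one, sub_eq_zero] at ha hb ⊢
  exact pow_gcd_eq_one.mpr ⟨ha, hb⟩ 

/-- If `A^(L * p^c) = 1`, every factor of the characteristic polynomial divides `X^L - 1`. -/
theorem factor_dvd_of_pow_eq_one {F : Type*} [Field F] (p : ℕ) [Fact p.Prime] [CharP F p] {ι : Type*} [Fintype ι]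
    [DecidableEq ι] [Nonempty ι] (A : Matrix ι ι F) (L c : ℕ) (h : A ^ (L * p ^ c) = 1) {f : F[X]} (hf : Irreducible f)
    (hfA : f ∣ A.charpoly) : f ∣ X ^ L - 1 := by
  refine hf.prime.dvd_of_dvd_pow (n := p ^ c) (CfsgLib.GLOrders.irreducible_dvd_of_dvd_charpoly A hf hfA ?_)
  rw [map_pow, map_sub, map_pow, aeval_X, map_one, sub_pow_char_pow_of_commute p c (Commute.one_right _), one_pow,
    ← pow_mul, h, sub_self]

/-- A lift whose order only involves the two primes of the order of its image. -/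
theorem exists_lift_two {G H : Type*} [Group G] [Finite G] [Group H] (π : G →* H) (hπ : Function.Surjective π)
    {r s : ℕ} (hr : r.Prime) (hs : s.Prime) (h : H) (hh : orderOf h = r * s) :
    ∃ g i j, orderOf g = r ^ i * s ^ j ∧ orderOf (π g) = r * s := by
  obtain ⟨g0, rfl⟩ := hπ h
  have ho := orderOf_pos g0
  obtain ⟨i, o1, hro1, ho1⟩ := Nat.exists_eq_pow_mul_and_not_dvd ho.ne' r hr.ne_one
  have ho1' : o1 ≠ 0 := by rintro rfl; exact hro1 (dvd_zero r)
  obtain ⟨j, u, hsu, hu⟩ := Nat.exists_eq_pow_mul_and_not_dvd ho1' s hs.ne_one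
  have hu0 : u ≠ 0 := by rintro rfl; exact hsu (dvd_zero s)
  have hru : ¬ r ∣ u := fun hd => hro1 (hu ▸ hd.trans (dvd_mul_left u _))
  refine ⟨g0 ^ u, i, j, ?_, ?_⟩
  · have e : orderOf g0 = r ^ i * s ^ j * u := by rw [ho1, hu, mul_assoc]
    rw [orderOf_pow_of_dvd hu0 (by rw [e]; exact dvd_mul_left u _), e, Nat.mul_div_cancel _ (Nat.pos_of_ne_zero hu0)]
  · rw [map_pow, Nat.Coprime.orderOf_pow ?_, hh]
    rw [hh]
    exact (hr.coprime_iff_not_dvd.mpr hru).mul_left (hs.coprime_iff_not_dvd.mpr hsu)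

theorem sum_count_natDegree {F : Type*} [Field F] [DecidableEq F] {ι : Type*} [Fintype ι] [DecidableEq ι] (A : Matrix ι ι F)
    (S : Finset F[X]) :
    ∑ f ∈ S, (normalizedFactors A.charpoly).count f * f.natDegree ≤ Fintype.card ι := by
  classical
  set s := normalizedFactors A.charpoly with hs
  have hmon : ∀ f ∈ s, f.Monic := by
    intro f hf
    rw [← normalize_normalized_factor f hf]
    exact monic_normalize (irreducible_of_normalized_factor f hf).ne_zero
  have hprod : s.prod = A.charpoly := by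
    have hm := monic_multiset_prod_of_monic s id (fun f hf => hmon f hf)
    rw [Multiset.map_id] at hm
    exact eq_of_monic_of_associated hm A.charpoly_monic (prod_normalizedFactors A.charpoly_monic.ne_zero)
  have h1 : (s.map natDegree).sum = Fintype.card ι := by
    rw [← natDegree_multiset_prod_of_monic _ hmon, hprod, Matrix.charpoly_natDegree_eq_dim]
  rw [Finset.sum_multiset_map_count] at h1
  calc ∑ f ∈ S, s.count f * f.natDegree ≤ ∑ f ∈ S ∪ s.toFinset, s.count f * f.natDegree :=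
        Finset.sum_le_sum_of_subset Finset.subset_union_left
    _ = ∑ f ∈ s.toFinset, s.count f * f.natDegree := by
        refine (Finset.sum_subset Finset.subset_union_right fun f _ hf => ?_).symm
        rw [Multiset.count_eq_zero.mpr (fun h => hf (Multiset.mem_toFinset.mpr h)), zero_mul]
    _ = Fintype.card ι := by simpa using h1

theorem not_dvd_card {F : Type*} [Field F] [Fintype F] (p : ℕ) [Fact p.Prime] [CharP F p] {r : ℕ} (hr : r.Prime)
    (hrp : r ≠ p) : ¬ r ∣ Fintype.card F := by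
  obtain ⟨m, hp, hm⟩ := FiniteField.card F p
  intro h
  rw [hm] at h
  exact hrp ((Nat.prime_dvd_prime_iff_eq hr hp).mp (hr.dvd_of_dvd_pow h))

end CfsgLib.GraphLie
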