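import Cfsg.Agent.GraphLie.Basic
import Cfsg.Agent.GLOrders.ProjectiveSL
import Cfsg.Agent.GLOrders.SpectrumThree
import Mathlib.LinearAlgebra.Matrix.GeneralLinearGroup.Card

/-! The prime graph of `PSL_n(q)`. -/

set_option autoImplicit false

namespace CfsgLib.GraphLie

open Polynomial UniqueFactorizationMonoid

variable {F : Type*} [Field F] [Fintype F] {n : ℕ}

local notation "PSL[" n ", " R "]" => Matrix.SpecialLinearGroup (Fin n) R ⧸ Subgroup.center (Matrix.SpecialLinearGroup (Fin n) R)

theorem order_le_of_dvd_psl (p : ℕ) [Fact p.Prime] [CharP F p] {r : ℕ} [Fact r.Prime] (hrp : r ≠ p)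
    (h : r ∣ Nat.card PSL[n, F]) : orderOf ((Fintype.card F : ℕ) : ZMod r) ≤ n := by
  classical
  have hr : r.Prime := Fact.out
  have hrq := not_dvd_card (F := F) p hr hrp
  have h1 : r ∣ Nat.card (GL (Fin n) F) := h.trans ((Subgroup.card_quotient_dvd_card _).trans
    (Subgroup.card_dvd_of_injective Matrix.SpecialLinearGroup.toGL Matrix.SpecialLinearGroup.toGL_injective))
  rw [Matrix.card_GL_field] at h1
  obtain ⟨i, -, hi⟩ := hr.prime.exists_mem_finset_dvd h1
  set q := Fintype.card F with hq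
  have h2 : q ^ n - q ^ (i : ℕ) = q ^ (i : ℕ) * (q ^ (n - i) - 1) := by
    rw [Nat.mul_sub, mul_one, ← pow_add, Nat.add_sub_cancel' i.isLt.le]
  rw [h2] at hi
  rcases hr.dvd_mul.mp hi with h3 | h3
  · exact absurd (hr.dvd_of_dvd_pow h3) hrq
  · exact (Nat.le_of_dvd (by have := i.isLt; omega) ((dvd_pow_sub_one_iff hrq _).mp h3)).trans (Nat.sub_le n i)

theorem det_eq_one_of_coprime {g : GL (Fin n) F} {N : ℕ} (hg : orderOf g ∣ N) (hN : Nat.Coprime N (Fintype.card F - 1)) :
    (g : Matrix (Fin n) (Fin n) F).det = 1 := by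
  have h1 : (Matrix.GeneralLinearGroup.det g) ^ N = 1 := by
    rw [← map_pow, orderOf_dvd_iff_pow_eq_one.mp hg, map_one]
  have h2 : (Matrix.GeneralLinearGroup.det g) ^ (Fintype.card F - 1) = 1 := by
    classical
    have := pow_card_eq_one (x := Matrix.GeneralLinearGroup.det g)
    rwa [Fintype.card_units] at this
  have h3 := pow_gcd_eq_one.mpr ⟨h1, h2⟩
  rw [hN.gcd_eq_one, pow_one] at h3
  exact congrArg Units.val h3

/-- An element of `GL_n` of order divisible by `N`, with `N` coprime to `q - 1`, gives one of order `N` in `PSL_n`. -/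
theorem psl_order_of_gl (hn : 0 < n) {g : GL (Fin n) F} {N : ℕ} (hg : N ∣ orderOf g)
    (hN : Nat.Coprime N (Fintype.card F - 1)) : ∃ x : PSL[n, F], orderOf x = N := by
  obtain ⟨u, hu⟩ := CfsgLib.GLOrders.exists_orderOf_eq_of_dvd (orderOf_pos g) hg
  let s : Matrix.SpecialLinearGroup (Fin n) F := ⟨(u : Matrix (Fin n) (Fin n) F), det_eq_one_of_coprime hu.dvd hN⟩
  have hsu : orderOf s = N := by
    rw [← hu, ← orderOf_injective Matrix.SpecialLinearGroup.toGL Matrix.SpecialLinearGroup.toGL_injective]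
    congr 1
    exact Units.ext rfl
  refine ⟨(s : PSL[n, F]), Nat.dvd_antisymm (hsu ▸ orderOf_map_dvd (QuotientGroup.mk' _) s) ?_⟩
  set j := orderOf (s : PSL[n, F])
  have h := pow_orderOf_eq_one (s : PSL[n, F])
  rw [← QuotientGroup.mk_pow] at h
  obtain ⟨c, hc⟩ := (CfsgLib.GLOrders.mk_eq_one_iff _).mp h
  rw [Matrix.SpecialLinearGroup.coe_pow] at hc
  have : Nonempty (Fin n) := ⟨⟨0, hn⟩⟩
  have hsN : (s : Matrix (Fin n) (Fin n) F) ^ N = 1 := by
    rw [← Matrix.SpecialLinearGroup.coe_pow, ← hsu, pow_orderOf_eq_one]; rfl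
  have hcN : c ^ N = 1 := by
    have h1 : ((s : Matrix (Fin n) (Fin n) F) ^ orderOf (s : PSL[n, F])) ^ N = 1 := by
      rw [← pow_mul, mul_comm, pow_mul, hsN, one_pow]
    rw [hc, _root_.smul_pow, one_pow] at h1
    have := congrFun (congrFun h1 (Classical.arbitrary _)) (Classical.arbitrary _)
    simpa using this
  have hN0 : 0 < N := hsu ▸ orderOf_pos s
  have hc0 : c ≠ 0 := by rintro rfl; rw [zero_pow hN0.ne'] at hcN; exact zero_ne_one hcN
  have h3 := pow_gcd_eq_one.mpr ⟨hcN, FiniteField.pow_card_sub_one_eq_one c hc0⟩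
  rw [hN.gcd_eq_one, pow_one] at h3
  rw [h3, one_smul] at hc
  rw [← hsu]
  exact orderOf_dvd_of_pow_eq_one (Subtype.ext (by rw [Matrix.SpecialLinearGroup.coe_pow]; exact hc))

/-- A block sum of two elements, as an element of `GL_n`. -/
theorem exists_block_sum {a b n : ℕ} (h : a + b ≤ n) (x : GL (Fin a) F) (y : GL (Fin b) F) :
    ∃ g : GL (Fin n) F, orderOf g = Nat.lcm (orderOf x) (orderOf y) := by
  obtain ⟨c, rfl⟩ := Nat.exists_eq_add_of_le h
  refine ⟨CfsgLib.GLOrders.blockHom F rfl (CfsgLib.GLOrders.blockHom F rfl (x, y), 1), ?_⟩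
  rw [orderOf_injective _ (CfsgLib.GLOrders.blockHom_injective F _), Prod.orderOf_mk, orderOf_one, Nat.lcm_one_right,
    orderOf_injective _ (CfsgLib.GLOrders.blockHom_injective F _), Prod.orderOf_mk]

theorem singer_dvd {r k : ℕ} [Fact r.Prime] (hrq : ¬ r ∣ Fintype.card F) (hk : 1 ≤ k)
    (hdvd : orderOf ((Fintype.card F : ℕ) : ZMod r) ∣ k) :
    ∀ g : GL (Fin k) F, orderOf g = Nat.card F ^ k - 1 → r ∣ orderOf g := by
  intro g hg
  rw [hg, Nat.card_eq_fintype_card]
  exact (dvd_pow_sub_one_iff hrq k).mpr hdvd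

/-- Two odd primes with `k, l ≥ 2`. -/
theorem psl_rs_iff (p : ℕ) [Fact p.Prime] [CharP F p] (hn : 2 ≤ n) {r s : ℕ} [Fact r.Prime] [Fact s.Prime]
    (hrp : r ≠ p) (hsp : s ≠ p) (hrs : r ≠ s) (hsG : s ∣ Nat.card PSL[n, F])
    (k l : ℕ) (hk : k = orderOf ((Fintype.card F : ℕ) : ZMod r)) (hl : l = orderOf ((Fintype.card F : ℕ) : ZMod s))
    (h2k : 2 ≤ k) (hkl : k ≤ l) :
    (∃ x : PSL[n, F], orderOf x = r * s) ↔ ¬ (n < k + l ∧ ¬ k ∣ l) := by
  classical
  have hr : r.Prime := Fact.out
  have hs : s.Prime := Fact.out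
  have hrq := not_dvd_card (F := F) p hr hrp
  have hsq := not_dvd_card (F := F) p hs hsp
  set q := Fintype.card F with hq
  have hr1 : ¬ r ∣ q - 1 := by
    intro h
    have h1 := (dvd_pow_sub_one_iff hrq 1).mp (by rwa [pow_one])
    rw [← hk, Nat.dvd_one] at h1
    omega
  have hs1 : ¬ s ∣ q - 1 := by
    intro h
    have h1 := (dvd_pow_sub_one_iff hsq 1).mp (by rwa [pow_one])
    rw [← hl, Nat.dvd_one] at h1
    omega
  have hcop : Nat.Coprime (r * s) (q - 1) := (hr.coprime_iff_not_dvd.mpr hr1).mul_left (hs.coprime_iff_not_dvd.mpr hs1)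
  have hln : l ≤ n := hl ▸ order_le_of_dvd_psl p hsp hsG
  constructor
  · rintro ⟨x, hx⟩ ⟨hnkl, hndvd⟩
    obtain ⟨g, i, j, hg, hgx⟩ := exists_lift_two (QuotientGroup.mk' (Subgroup.center (Matrix.SpecialLinearGroup (Fin n) F)))
      (QuotientGroup.mk'_surjective _) hr hs x hx
    have : Nonempty (Fin n) := ⟨⟨0, by omega⟩⟩
    set A := (g : Matrix (Fin n) (Fin n) F) with hA
    have hord : r * s ∣ orderOf g := hgx ▸ orderOf_map_dvd _ g
    obtain ⟨y, hy⟩ := CfsgLib.GLOrders.exists_orderOf_eq_of_dvd (orderOf_pos g) hord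
    set B := (y : Matrix (Fin n) (Fin n) F) with hB
    have hBpow : B ^ (r * s * p ^ 0) = 1 := by
      rw [pow_zero, mul_one, hB, ← Matrix.SpecialLinearGroup.coe_pow, ← hy, pow_orderOf_eq_one]; rfl
    have hfac : ∀ f ∈ normalizedFactors B.charpoly, f ∣ X ^ (r * s) - 1 ∧ f.coeff 0 ≠ 0 := by
      intro f hf
      have h1 := factor_dvd_of_pow_eq_one p B _ 0 hBpow (irreducible_of_normalized_factor f hf) (dvd_of_mem_normalizedFactors hf)
      refine ⟨h1, fun h0 => ?_⟩
      obtain ⟨c, hc⟩ := h1
      have := congrArg (fun P => coeff P 0) hc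
      simp [coeff_X_pow, hr.ne_zero, hs.ne_zero, h0] at this
    have hdeg : ∀ f ∈ normalizedFactors B.charpoly, f ∣ X ^ Nat.gcd (r * s) (q ^ f.natDegree - 1) - 1 := by
      intro f hf
      refine dvd_X_pow_gcd (hfac f hf).1 ?_
      rw [hq, ← Nat.card_eq_fintype_card]
      exact CfsgLib.GLOrders.irreducible_dvd_X_pow_sub_one (irreducible_of_normalized_factor f hf) (hfac f hf).2
    by_cases hbig : ∃ f ∈ normalizedFactors B.charpoly, ¬ f ∣ X ^ r - 1 ∧ ¬ f ∣ X ^ s - 1
    · obtain ⟨f, hf, hfr, hfs⟩ := hbig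
      set d := f.natDegree
      have hd := hdeg f hf
      have hrd : r ∣ q ^ d - 1 := by
        by_contra hnd
        apply hfs
        refine hd.trans ?_
        have h1 : Nat.gcd (r * s) (q ^ d - 1) ∣ s :=
          ((hr.coprime_iff_not_dvd.mpr hnd).symm.coprime_dvd_left (Nat.gcd_dvd_right (r * s) _)).dvd_of_dvd_mul_left (Nat.gcd_dvd_left _ _)
        obtain ⟨c, hc⟩ := h1
        nth_rw 2 [hc]
        rw [pow_mul]
        exact sub_one_dvd_pow_sub_one _ c
      have hsd : s ∣ q ^ d - 1 := by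
        by_contra hnd
        apply hfr
        refine hd.trans ?_
        have h1 : Nat.gcd (r * s) (q ^ d - 1) ∣ r :=
          ((hs.coprime_iff_not_dvd.mpr hnd).symm.coprime_dvd_left (Nat.gcd_dvd_right (r * s) _)).dvd_of_dvd_mul_right (Nat.gcd_dvd_left _ _)
        obtain ⟨c, hc⟩ := h1
        nth_rw 2 [hc]
        rw [pow_mul]
        exact sub_one_dvd_pow_sub_one _ c
      have hkd := hk ▸ (dvd_pow_sub_one_iff hrq d).mp hrd
      have hld := hl ▸ (dvd_pow_sub_one_iff hsq d).mp hsd
      have hdn : d ≤ n := by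
        have := (Polynomial.natDegree_le_of_dvd (dvd_of_mem_normalizedFactors hf) B.charpoly_monic.ne_zero)
        rwa [Matrix.charpoly_natDegree_eq_dim, Fintype.card_fin] at this
      have hd0 : 0 < d := (irreducible_of_normalized_factor f hf).natDegree_pos
      obtain ⟨c, hc⟩ := hld
      have hc2 : c ≠ 1 := fun h => hndvd (by rw [h, mul_one] at hc; exact hc ▸ hkd)
      have hc0 : c ≠ 0 := by rintro rfl; omega
      have : l * 2 ≤ l * c := Nat.mul_le_mul_left l (by omega)
      omega
    · push Not at hbig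
      have hex : ∀ (u v : ℕ), u.Prime → v.Prime → u ≠ v → u * v = r * s →
          (∀ f ∈ normalizedFactors B.charpoly, f ∣ X ^ u - 1 ∨ f ∣ X ^ v - 1) →
          ∃ f ∈ normalizedFactors B.charpoly, f ∣ X ^ u - 1 ∧ ¬ f ∣ X - 1 := by
        intro u v hu hv huv huvrs hall
        by_contra hne
        push Not at hne
        have hallv : ∀ f ∈ normalizedFactors B.charpoly, f ∣ X ^ v - C 1 := by
          intro f hf
          rw [map_one]
          rcases hall f hf with h | h
          · exact (hne f hf h).trans (sub_one_dvd_pow_sub_one _ v)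
          · exact h
        have hcard : ∀ f ∈ normalizedFactors B.charpoly, (normalizedFactors B.charpoly).count f ≤ n := by
          intro f hf
          have h1 := sum_count_natDegree B {f}
          rw [Finset.sum_singleton, Fintype.card_fin] at h1
          exact le_trans (Nat.le_mul_of_pos_right _ (irreducible_of_normalized_factor f hf).natDegree_pos) h1
        have h2 := CfsgLib.GLOrders.pow_eq_scalar_of_factors p B v n (Nat.clog p n) 1 (Nat.le_pow_clog (Fact.out : p.Prime).one_lt n) hallv hcard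
        rw [one_pow, one_smul, hB, ← Matrix.SpecialLinearGroup.coe_pow] at h2
        have h3 := orderOf_dvd_of_pow_eq_one (x := y) (n := v * p ^ Nat.clog p n) (Subtype.ext (by rw [h2]; rfl))
        rw [hy, ← huvrs] at h3
        rcases hu.dvd_mul.mp ((dvd_mul_right u v).trans h3) with h | h
        · exact huv ((Nat.prime_dvd_prime_iff_eq hu hv).mp h)
        · have hup := (Nat.prime_dvd_prime_iff_eq hu (Fact.out : p.Prime)).mp (hu.dvd_of_dvd_pow h)
          have h4 : p ∣ r * s := huvrs ▸ hup ▸ dvd_mul_right u v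
          rcases (Fact.out : p.Prime).dvd_mul.mp h4 with h5 | h5
          · exact hrp ((Nat.prime_dvd_prime_iff_eq Fact.out hr).mp h5).symm
          · exact hsp ((Nat.prime_dvd_prime_iff_eq Fact.out hs).mp h5).symm
      obtain ⟨f1, hf1, hf1r, hf1n⟩ := hex r s hr hs hrs rfl (fun f hf => or_iff_not_imp_left.mpr (hbig f hf))
      obtain ⟨f2, hf2, hf2s, hf2n⟩ := hex s r hs hr hrs.symm (mul_comm s r)
        (fun f hf => (or_iff_not_imp_left.mpr (hbig f hf)).symm)
      have hne : f1 ≠ f2 := by
        rintro rfl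
        have := dvd_X_pow_gcd hf1r hf2s
        rw [(Nat.coprime_primes hr hs).mpr hrs, pow_one] at this
        exact hf1n this
      have hdeg1 : ∀ f ∈ normalizedFactors B.charpoly, ∀ u : ℕ, u.Prime → f ∣ X ^ u - 1 → ¬ f ∣ X - 1 →
          u ∣ q ^ f.natDegree - 1 := by
        intro f hf u hu h1 h2
        by_contra hnd
        apply h2
        have h3 : f ∣ X ^ Nat.gcd u (q ^ f.natDegree - 1) - 1 := by
          refine dvd_X_pow_gcd h1 ?_
          rw [hq, ← Nat.card_eq_fintype_card]
          exact CfsgLib.GLOrders.irreducible_dvd_X_pow_sub_one (irreducible_of_normalized_factor f hf) (hfac f hf).2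
        rw [(hu.coprime_iff_not_dvd.mpr hnd).gcd_eq_one, pow_one] at h3
        exact h3
      have hk1 := Nat.le_of_dvd (irreducible_of_normalized_factor f1 hf1).natDegree_pos
        ((dvd_pow_sub_one_iff hrq _).mp (hdeg1 f1 hf1 r hr hf1r hf1n))
      have hl1 := Nat.le_of_dvd (irreducible_of_normalized_factor f2 hf2).natDegree_pos
        ((dvd_pow_sub_one_iff hsq _).mp (hdeg1 f2 hf2 s hs hf2s hf2n))
      rw [← hk] at hk1
      rw [← hl] at hl1
      have h1 := sum_count_natDegree B {f1, f2}
      rw [Finset.sum_pair hne, Fintype.card_fin] at h1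
      have c1 := Multiset.count_pos.mpr hf1
      have c2 := Multiset.count_pos.mpr hf2
      have := Nat.le_mul_of_pos_left f1.natDegree c1
      have := Nat.le_mul_of_pos_left f2.natDegree c2
      omega
  · intro h
    by_cases hnkl : n < k + l
    · have hdvd : k ∣ l := by_contra fun h' => h ⟨hnkl, h'⟩
      obtain ⟨S, hS⟩ := CfsgLib.GLOrders.exists_singer (F := F) l (by omega)
      have h1 := singer_dvd (F := F) (r := r) hrq (by omega : 1 ≤ l) (hk ▸ hdvd) S hS
      have h2 := singer_dvd (F := F) (r := s) hsq (by omega : 1 ≤ l) (hl ▸ dvd_rfl) S hS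
      obtain ⟨g, hg⟩ := exists_block_sum (n := n) (show l + 0 ≤ n by omega) S 1
      refine psl_order_of_gl (by omega) (g := g) ?_ hcop
      rw [hg, orderOf_one, Nat.lcm_one_right]
      exact ((Nat.coprime_primes hr hs).mpr hrs).mul_dvd_of_dvd_of_dvd h1 h2
    · obtain ⟨S, hS⟩ := CfsgLib.GLOrders.exists_singer (F := F) k (by omega)
      obtain ⟨T, hT⟩ := CfsgLib.GLOrders.exists_singer (F := F) l (by omega)
      have h1 := singer_dvd (F := F) (r := r) hrq (by omega : 1 ≤ k) (hk ▸ dvd_rfl) S hS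
      have h2 := singer_dvd (F := F) (r := s) hsq (by omega : 1 ≤ l) (hl ▸ dvd_rfl) T hT
      obtain ⟨g, hg⟩ := exists_block_sum (n := n) (show k + l ≤ n by omega) S T
      refine psl_order_of_gl (by omega) (g := g) ?_ hcop
      rw [hg]
      exact ((Nat.coprime_primes hr hs).mpr hrs).mul_dvd_of_dvd_of_dvd (h1.trans (Nat.dvd_lcm_left _ _)) (h2.trans (Nat.dvd_lcm_right _ _))

set_option maxHeartbeats 1000000 in
/-- An odd prime and the characteristic. -/
theorem psl_rp_iff (p : ℕ) [Fact p.Prime] [CharP F p] (hn : 2 ≤ n) {r : ℕ} [Fact r.Prime] (hrp : r ≠ p)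
    (hrG : r ∣ Nat.card PSL[n, F]) (k : ℕ) (hk : k = orderOf ((Fintype.card F : ℕ) : ZMod r)) :
    (∃ x : PSL[n, F], orderOf x = r * p) ↔
      ¬ (n - 2 < k ∨ (n = 3 ∧ r = 3 ∧ 3 ∣ Fintype.card F - 1 ∧ ¬ 9 ∣ Fintype.card F - 1)) := by
  classical
  have hr : r.Prime := Fact.out
  have hp : p.Prime := Fact.out
  have hrq := not_dvd_card (F := F) p hr hrp
  set q := Fintype.card F with hq
  have hk1 : 1 ≤ k := hk ▸ orderOf_zmod_pos hrq
  have : Nonempty (Fin n) := ⟨⟨0, by omega⟩⟩
  constructor
  · rintro ⟨x, hx⟩ hbad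
    obtain ⟨g, i, j, hg, hgx⟩ := exists_lift_two (QuotientGroup.mk' (Subgroup.center (Matrix.SpecialLinearGroup (Fin n) F)))
      (QuotientGroup.mk'_surjective _) hr hp x hx
    set B := (g : Matrix (Fin n) (Fin n) F) with hB
    have hBpow : B ^ (r ^ i * p ^ j) = 1 := by
      rw [hB, ← Matrix.SpecialLinearGroup.coe_pow, ← hg, pow_orderOf_eq_one]; rfl
    have hscal : ∀ (N : ℕ) (c : F), B ^ N = c • (1 : Matrix (Fin n) (Fin n) F) → r * p ∣ N := by
      intro N c hc
      rw [← hgx]
      refine orderOf_dvd_of_pow_eq_one ?_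
      rw [← map_pow]
      exact (CfsgLib.GLOrders.mk_eq_one_iff _).mpr ⟨c, by rw [Matrix.SpecialLinearGroup.coe_pow]; exact hc⟩
    have hfac : ∀ f ∈ normalizedFactors B.charpoly, f ∣ X ^ (r ^ i) - 1 ∧ f.coeff 0 ≠ 0 := by
      intro f hf
      have h1 := factor_dvd_of_pow_eq_one p B _ j hBpow (irreducible_of_normalized_factor f hf) (dvd_of_mem_normalizedFactors hf)
      refine ⟨h1, fun h0 => ?_⟩
      obtain ⟨c, hc⟩ := h1
      have := congrArg (fun P => coeff P 0) hc
      simp only [coeff_sub, coeff_X_pow, coeff_one_zero, mul_coeff_zero, h0, zero_mul,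
        if_neg (pow_ne_zero i hr.ne_zero).symm, zero_sub, neg_eq_zero, one_ne_zero] at this
    have hcnt : ∀ f ∈ normalizedFactors B.charpoly, (normalizedFactors B.charpoly).count f ≤ n := by
      intro f hf
      have h1 := sum_count_natDegree B {f}
      rw [Finset.sum_singleton, Fintype.card_fin] at h1
      exact le_trans (Nat.le_mul_of_pos_right _ (irreducible_of_normalized_factor f hf).natDegree_pos) h1
    obtain ⟨f₀, hf₀, hf₀2⟩ : ∃ f ∈ normalizedFactors B.charpoly, 2 ≤ (normalizedFactors B.charpoly).count f := by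
      by_contra hne
      push Not at hne
      have h2 := CfsgLib.GLOrders.pow_eq_scalar_of_factors p B (r ^ i) 1 0 1 (by simp)
        (fun f hf => by rw [map_one]; exact (hfac f hf).1) (fun f hf => Nat.le_of_lt_succ (hne f hf))
      rw [pow_zero, mul_one, one_pow] at h2
      have h3 := (dvd_mul_left p r).trans (hscal _ _ h2)
      exact hrp ((Nat.prime_dvd_prime_iff_eq hp hr).mp (hp.dvd_of_dvd_pow h3)).symm
    have hd0 := (irreducible_of_normalized_factor f₀ hf₀).natDegree_pos
    have hroot : ∀ f ∈ normalizedFactors B.charpoly, f.natDegree = 1 → ∃ a : F, a ≠ 0 ∧ f = X - C a ∧ a ^ r ^ i = 1 := by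
      intro f hf hd
      have hm : f.Monic := by
        rw [← normalize_normalized_factor f hf]
        exact monic_normalize (irreducible_of_normalized_factor f hf).ne_zero
      have e : f = X - C (-(f.coeff 0)) := by
        conv_lhs => rw [hm.eq_X_add_C hd]
        rw [map_neg, sub_neg_eq_add]
      refine ⟨-(f.coeff 0), neg_ne_zero.mpr (hfac f hf).2, e, ?_⟩
      obtain ⟨c, hc⟩ := (hfac f hf).1
      have h := congrArg (eval (-(f.coeff 0))) hc
      rw [eval_mul, show eval (-(f.coeff 0)) f = 0 by rw [e]; simp, zero_mul] at h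
      simp only [eval_sub, eval_pow, eval_X, eval_one, sub_eq_zero] at h
      exact h
    by_cases hk2 : 2 ≤ k
    · obtain ⟨f1, hf1, hf1n⟩ : ∃ f ∈ normalizedFactors B.charpoly, ¬ f ∣ X - 1 := by
        by_contra hne
        push Not at hne
        have h2 := CfsgLib.GLOrders.pow_eq_scalar_of_factors p B 1 n (Nat.clog p n) 1 (Nat.le_pow_clog hp.one_lt n)
          (fun f hf => by rw [map_one, pow_one]; exact hne f hf) hcnt
        rw [one_mul, one_pow] at h2
        exact hrp ((Nat.prime_dvd_prime_iff_eq hr hp).mp (hr.dvd_of_dvd_pow ((dvd_mul_right r p).trans (hscal _ _ h2))))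
      have hkd : k ≤ f1.natDegree := by
        have hd := (irreducible_of_normalized_factor f1 hf1).natDegree_pos
        refine Nat.le_of_dvd hd (hk ▸ (dvd_pow_sub_one_iff hrq _).mp ?_)
        by_contra hnd
        apply hf1n
        have h3 : f1 ∣ X ^ Nat.gcd (r ^ i) (q ^ f1.natDegree - 1) - 1 := by
          refine dvd_X_pow_gcd (hfac f1 hf1).1 ?_
          rw [hq, ← Nat.card_eq_fintype_card]
          exact CfsgLib.GLOrders.irreducible_dvd_X_pow_sub_one (irreducible_of_normalized_factor f1 hf1) (hfac f1 hf1).2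
        rwa [((hr.coprime_iff_not_dvd.mpr hnd).pow_left i).gcd_eq_one, pow_one] at h3
      rcases hbad with hbad | ⟨hn3, hr3, hq3, -⟩
      · by_cases he : f1 = f₀
        · have h1 := sum_count_natDegree B {f₀}
          rw [Finset.sum_singleton, Fintype.card_fin] at h1
          have := Nat.mul_le_mul hf₀2 (he ▸ hkd)
          omega
        · have h1 := sum_count_natDegree B {f1, f₀}
          rw [Finset.sum_pair he, Fintype.card_fin] at h1
          have := Nat.le_mul_of_pos_left f1.natDegree (Multiset.count_pos.mpr hf1)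
          have := Nat.mul_le_mul hf₀2 hd0
          omega
      · have h1 : orderOf ((q : ℕ) : ZMod r) ∣ 1 := (dvd_pow_sub_one_iff hrq 1).mp (by rw [pow_one]; exact hr3 ▸ hq3)
        rw [← hk, Nat.dvd_one] at h1
        omega
    · have hk1' : k = 1 := by omega
      have hn23 : n = 2 ∨ n = 3 := by rcases hbad with h | ⟨h, -⟩ <;> omega
      have h1 := sum_count_natDegree B {f₀}
      rw [Finset.sum_singleton, Fintype.card_fin] at h1
      have := Nat.mul_le_mul hf₀2 (le_refl f₀.natDegree)
      have hdeg1 : f₀.natDegree = 1 := by omega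
      obtain ⟨a, ha0, hfa, ha⟩ := hroot f₀ hf₀ hdeg1
      by_cases hall : ∀ f ∈ normalizedFactors B.charpoly, f = f₀
      · have h2 := CfsgLib.GLOrders.pow_eq_scalar_of_factors p B 1 n (Nat.clog p n) a (Nat.le_pow_clog hp.one_lt n)
          (fun f hf => by rw [hall f hf, hfa, pow_one]) hcnt
        rw [one_mul] at h2
        exact hrp ((Nat.prime_dvd_prime_iff_eq hr hp).mp (hr.dvd_of_dvd_pow ((dvd_mul_right r p).trans (hscal _ _ h2))))
      · push Not at hall
        obtain ⟨f1, hf1, hne⟩ := hall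
        have h2 := sum_count_natDegree B {f1, f₀}
        rw [Finset.sum_pair hne, Fintype.card_fin, hdeg1, mul_one] at h2
        have hd1 := (irreducible_of_normalized_factor f1 hf1).natDegree_pos
        have := Nat.le_mul_of_pos_left f1.natDegree (Multiset.count_pos.mpr hf1)
        have hn3 : n = 3 := by omega
        have hd1' : f1.natDegree = 1 := by omega
        have hc2 : (normalizedFactors B.charpoly).count f₀ = 2 := by omega
        obtain ⟨b, hb0, hfb, hb⟩ := hroot f1 hf1 hd1'
        obtain ⟨-, hr3, hq3, hq9⟩ : n = 3 ∧ r = 3 ∧ 3 ∣ q - 1 ∧ ¬ 9 ∣ q - 1 := by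
          rcases hbad with h | h
          · omega
          · exact h
        have hab : a ≠ b := fun h => hne (by rw [hfa, hfb, h])
        have hcube : ∀ c : F, c ≠ 0 → c ^ r ^ i = 1 → c ^ 3 = 1 := by
          intro c hc0 hc
          obtain ⟨e, -, he⟩ := (Nat.dvd_prime_pow hr).mp (orderOf_dvd_of_pow_eq_one hc)
          have h4 : orderOf c ∣ q - 1 := orderOf_dvd_of_pow_eq_one (FiniteField.pow_card_sub_one_eq_one c hc0)
          refine orderOf_dvd_iff_pow_eq_one.mp ?_
          rw [he, hr3] at h4 ⊢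
          match e with
          | 0 => simp
          | 1 => simp
          | e + 2 => exact absurd ((pow_dvd_pow 3 (by omega : 2 ≤ e + 2)).trans h4) hq9
        have hchi : B.charpoly = (X - C a) ^ 2 * (X - C b) := by
          refine eq_of_monic_of_dvd_of_natDegree_le (((monic_X_sub_C a).pow 2).mul (monic_X_sub_C b)) B.charpoly_monic ?_ ?_
          · refine IsCoprime.mul_dvd (IsCoprime.pow_left (isCoprime_X_sub_C_of_isUnit_sub (sub_ne_zero.mpr hab).isUnit)) ?_
              (hfb ▸ dvd_of_mem_normalizedFactors hf1)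
            rw [← hfa]
            refine Dvd.dvd.trans ?_ (prod_normalizedFactors B.charpoly_monic.ne_zero).dvd
            have hsub : Multiset.replicate 2 f₀ ≤ normalizedFactors B.charpoly := by
              rw [← hc2]; exact Multiset.le_count_iff_replicate_le.mp le_rfl
            have h5 := Multiset.prod_dvd_prod_of_le hsub
            rwa [Multiset.prod_replicate] at h5
          · rw [Matrix.charpoly_natDegree_eq_dim, Fintype.card_fin, natDegree_mul (pow_ne_zero 2 (X_sub_C_ne_zero a)) (X_sub_C_ne_zero b),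
              natDegree_pow, natDegree_X_sub_C, natDegree_X_sub_C]
            omega
        have hdet := Matrix.det_eq_sign_charpoly_coeff B
        rw [hchi, coeff_zero_eq_eval_zero, Fintype.card_fin, g.2, show ((-1 : F)) ^ n = -1 by rw [hn3]; norm_num] at hdet
        simp only [eval_mul, eval_pow, eval_sub, eval_X, eval_C] at hdet
        have e3 := hcube a ha0 ha
        apply hab
        have e4 : a ^ 2 * b = a ^ 2 * a := by rw [← pow_succ, e3]; linear_combination -hdet
        exact (mul_left_cancel₀ (pow_ne_zero 2 ha0) e4).symm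
  · intro hbad
    push Not at hbad
    obtain ⟨hkn, hex⟩ := hbad
    by_cases hk2 : 2 ≤ k
    · have hr1 : ¬ r ∣ q - 1 := by
        intro h
        have h1 := (dvd_pow_sub_one_iff hrq 1).mp (by rwa [pow_one])
        rw [← hk, Nat.dvd_one] at h1
        omega
      have hp1 : ¬ p ∣ q - 1 := by
        intro h
        obtain ⟨m, hp', hm⟩ := FiniteField.card F p
        have h2 : p ∣ q := by rw [hq, hm]; exact dvd_pow_self p m.ne_zero
        have h3 := Nat.dvd_sub h2 h
        rw [show q - (q - 1) = 1 by have := Fintype.card_pos (α := F); omega] at h3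
        exact hp.not_dvd_one h3
      have hcop : Nat.Coprime (r * p) (q - 1) := (hr.coprime_iff_not_dvd.mpr hr1).mul_left (hp.coprime_iff_not_dvd.mpr hp1)
      obtain ⟨S, hS⟩ := CfsgLib.GLOrders.exists_singer (F := F) k hk1
      obtain ⟨U, -, hU⟩ := CfsgLib.GLOrders.exists_unipotent (F := F) p 2 1 le_rfl (by rw [pow_one]; exact hp.two_le)
        (fun j hj => by rw [show j = 0 by omega]; simp)
      have h1 := singer_dvd (F := F) (r := r) hrq hk1 (hk ▸ dvd_rfl) S hS
      obtain ⟨g, hg⟩ := exists_block_sum (n := n) (show k + 2 ≤ n by omega) S U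
      refine psl_order_of_gl (by omega) (g := g) ?_ hcop
      rw [hg, hU, pow_one]
      exact ((Nat.coprime_primes hr hp).mpr hrp).mul_dvd_of_dvd_of_dvd (h1.trans (Nat.dvd_lcm_left _ _)) (Nat.dvd_lcm_right _ _)
    · have hk1' : k = 1 := by omega
      have hr1 : r ∣ q - 1 := by
        have := (dvd_pow_sub_one_iff hrq 1).mpr (by rw [← hk, hk1'])
        rwa [pow_one] at this
      obtain ⟨rr, hrr, hrr3, hrr'⟩ : ∃ rr, rr ∣ q - 1 ∧ r ∣ rr ∧ (n = 3 → ∀ t, rr ∣ 3 * t → r ∣ t) := by
        by_cases h : n = 3 ∧ r = 3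
        · refine ⟨9, hex h.1 h.2 (h.2 ▸ hr1), by rw [h.2]; norm_num, fun _ t ht => ?_⟩
          rw [h.2]; omega
        · refine ⟨r, hr1, dvd_rfl, fun h3 t ht => ?_⟩
          rcases hr.dvd_mul.mp ht with h' | h'
          · exact absurd ⟨h3, (Nat.prime_dvd_prime_iff_eq hr Nat.prime_three).mp h'⟩ h
          · exact h'
      obtain ⟨w, hw⟩ := IsCyclic.exists_generator (α := Fˣ)
      have hwo : orderOf w = q - 1 := by
        rw [orderOf_eq_card_of_forall_mem_zpowers hw, Nat.card_units, Nat.card_eq_fintype_card]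
      obtain ⟨a, ha⟩ := CfsgLib.GLOrders.exists_orderOf_eq_of_dvd (orderOf_pos w) (hwo ▸ hrr : rr ∣ orderOf w)
      let ρ : Fin 2 ⊕ Fin (n - 2) ≃ Fin n := finSumFinEquiv.trans (finCongr (by omega))
      let J2 : Matrix (Fin 2) (Fin 2) F := !![(a : F), 1; 0, a]
      let D : Matrix (Fin (n - 2)) (Fin (n - 2)) F :=
        Matrix.diagonal (Function.update (fun _ => (1 : F)) ⟨0, by omega⟩ ((a⁻¹ * a⁻¹ : Fˣ) : F))
      let M : Matrix (Fin n) (Fin n) F := Matrix.reindex ρ ρ (Matrix.fromBlocks J2 0 0 D)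
      have hMd : M.det = 1 := by
        simp only [M, J2, D, Matrix.det_reindex_self, Matrix.det_fromBlocks_zero₂₁, Matrix.det_fin_two_of, mul_zero, sub_zero,
          Matrix.det_diagonal, Finset.prod_update_of_mem (Finset.mem_univ _), Finset.prod_const_one, mul_one,
          ← Units.val_mul]
        simp [mul_assoc]
      let s : Matrix.SpecialLinearGroup (Fin n) F := ⟨M, hMd⟩
      set j := orderOf (s : PSL[n, F]) with hj
      have h := pow_orderOf_eq_one (s : PSL[n, F])
      rw [← QuotientGroup.mk_pow] at h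
      obtain ⟨c, hc⟩ := (CfsgLib.GLOrders.mk_eq_one_iff _).mp h
      rw [Matrix.SpecialLinearGroup.coe_pow] at hc
      change M ^ j = _ at hc
      have hMj : (Matrix.fromBlocks J2 0 0 D) ^ j = c • 1 := by
        have h1 := congrArg (Matrix.reindexAlgEquiv F F ρ).symm hc
        rw [map_pow, map_smul, map_one] at h1
        simpa [M, Matrix.reindexAlgEquiv] using h1
      rw [Matrix.fromBlocks_diagonal_pow, ← Matrix.fromBlocks_one, Matrix.fromBlocks_smul, Matrix.fromBlocks_inj] at hMj
      obtain ⟨hJ, -, -, hD⟩ := hMj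
      have hJpow : ∀ t : ℕ, J2 ^ t = !![(a : F) ^ t, (t : F) * (a : F) ^ (t - 1); 0, (a : F) ^ t] := by
        intro t
        induction t with
        | zero => simp [Matrix.one_fin_two]
        | succ t ih =>
          rw [pow_succ, ih]
          simp only [J2, Matrix.mul_fin_two]
          rcases t with _ | t
          · simp
          · simp [pow_succ]; ring_nf
      rw [hJpow] at hJ
      have e00 : (a : F) ^ j = c := by
        have := congrFun (congrFun hJ 0) 0
        simpa using this
      have hpj : p ∣ j := by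
        have := congrFun (congrFun hJ 0) 1
        simp at this
        exact (CharP.cast_eq_zero_iff F p j).mp this
      have e22 : ((a⁻¹ * a⁻¹ : Fˣ) : F) ^ j = c := by
        have := congrFun (congrFun hD ⟨0, by omega⟩) ⟨0, by omega⟩
        simpa [D, Matrix.diagonal_pow] using this
      have h3j : a ^ (3 * j) = 1 := by
        have e : a ^ j = (a⁻¹ * a⁻¹) ^ j := Units.ext (by rw [Units.val_pow_eq_pow_val, Units.val_pow_eq_pow_val, e00, e22])
        rw [mul_pow, inv_pow, eq_comm, ← mul_inv, inv_eq_iff_mul_eq_one, ← pow_add, ← pow_add] at e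
        rwa [show j + j + j = 3 * j by ring] at e
      have hrj : r ∣ j := by
        rcases Nat.lt_or_ge 3 n with h4 | h4
        · have e33 : (1 : F) ^ j = c := by
            have := congrFun (congrFun hD ⟨1, by omega⟩) ⟨1, by omega⟩
            simpa [D, Matrix.diagonal_pow, Function.update_apply, Fin.ext_iff] using this
          have e : a ^ j = 1 := Units.ext (by rw [Units.val_pow_eq_pow_val, e00, ← e33, one_pow, Units.val_one])
          exact hrr3.trans (ha ▸ orderOf_dvd_of_pow_eq_one e)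
        · exact hrr' (by omega) j (ha ▸ orderOf_dvd_of_pow_eq_one h3j)
      exact CfsgLib.GLOrders.exists_orderOf_eq_of_dvd (orderOf_pos _)
        (((Nat.coprime_primes hr hp).mpr hrp).mul_dvd_of_dvd_of_dvd hrj hpj)

end CfsgLib.GraphLie
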