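import Cfsg.Agent.GraphLie.Basic
import Cfsg.Agent.Symp.Spectrum
import Cfsg.Agent.GLOrders.SpectrumThree

/-! The prime graph of `PSp_2n(q)`. -/

set_option autoImplicit false

namespace CfsgLib.GraphLie

open Polynomial UniqueFactorizationMonoid CfsgLib.Symp

variable {F : Type*} [Field F] [Fintype F] {n : ℕ}

local notation "Sp[" n ", " R "]" => Matrix.symplecticGroup (Fin n) R
local notation "PS[" n ", " R "]" => Matrix.symplecticGroup (Fin n) R ⧸ Subgroup.center (Matrix.symplecticGroup (Fin n) R)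

/-- `η = k` for odd `k`, `k / 2` for even `k`. -/
def IsEta (k η : ℕ) : Prop := (Odd k ∧ η = k) ∨ (Even k ∧ 2 * η = k)

theorem exists_torus_eta {r : ℕ} [Fact r.Prime] (hrq : ¬ r ∣ Fintype.card F) (k η : ℕ)
    (hk : k = orderOf ((Fintype.card F : ℕ) : ZMod r)) (hη : IsEta k η) : ∃ x : Sp[η, F], r ∣ orderOf x := by
  have hk1 : 1 ≤ k := hk ▸ orderOf_zmod_pos hrq
  rcases hη with ⟨-, rfl⟩ | ⟨he, hη⟩
  · obtain ⟨x, hx⟩ := exists_torus_minus (F := F) η hk1
    refine ⟨x, ?_⟩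
    rw [hx, Nat.card_eq_fintype_card]
    exact (dvd_pow_sub_one_iff hrq η).mpr (hk ▸ dvd_rfl)
  · obtain ⟨x, hx⟩ := exists_torus_plus (F := F) η (by omega)
    refine ⟨x, ?_⟩
    rw [hx, Nat.card_eq_fintype_card]
    have h := dvd_pow_add_one_of (r := r) hrq odd_one (hk ▸ he)
    rwa [← hk, mul_one, show k / 2 = η by omega] at h

theorem exists_sp_sum {a b : ℕ} (h : a + b ≤ n) (x : Sp[a, F]) (y : Sp[b, F]) :
    ∃ g : Sp[n, F], orderOf g = Nat.lcm (orderOf x) (orderOf y) := by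
  obtain ⟨c, rfl⟩ := Nat.exists_eq_add_of_le h
  refine ⟨spBlock F rfl (spBlock F rfl (x, y), (1 : Sp[c, F])), ?_⟩
  rw [orderOf_spBlock, orderOf_spBlock, orderOf_one, Nat.lcm_one_right]

theorem psp_order_of_sp (hn : 0 < n) {x : Sp[n, F]} {N : ℕ} (hx : N ∣ orderOf x) (hN : Odd N ∨ (2 : F) = 0) :
    ∃ y : PS[n, F], orderOf y = N := by
  refine CfsgLib.GLOrders.exists_orderOf_eq_of_dvd (orderOf_pos (x : PS[n, F])) ?_
  rcases hN with hN | h2
  · exact (Nat.coprime_two_right.mpr hN).dvd_of_dvd_mul_left (hx.trans (orderOf_dvd_two_mul hn x))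
  · refine hx.trans (orderOf_dvd_of_pow_eq_one (Subtype.ext ?_))
    rw [SubmonoidClass.coe_pow, OneMemClass.coe_one]
    rcases (mk_pow_eq_one_iff hn x _).mp (pow_orderOf_eq_one (x : PS[n, F])) with h | h
    · exact h
    · rw [h]
      ext i j
      have h' : (-1 : F) = 1 := by linear_combination -h2
      simp [Matrix.one_apply, apply_ite (Neg.neg : F → F), h']

/-- Half the degree of the orbit `{f, star f}`. -/
noncomputable def weight (f : F[X]) : ℕ := by
  classical exact if CfsgLib.Symp.star f = f then f.natDegree / 2 else f.natDegree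

theorem prime_dvd_torusExp {f : F[X]} (hf : TorusPoly f) {r i : ℕ} (hr : r.Prime) (h : f ∣ X ^ r ^ i - 1) :
    r ∣ torusExp f := by
  by_contra hnd
  have h1 := dvd_X_pow_gcd h (torusExp_dvd hf)
  rw [((hr.coprime_iff_not_dvd.mpr hnd).pow_left i).gcd_eq_one, pow_one] at h1
  exact hf.2.2.2.1 (eq_of_monic_of_associated hf.2.1 (by simpa using monic_X_sub_C (1 : F))
    (hf.1.associated_of_dvd (by simpa using irreducible_X_sub_C (1 : F)) h1))

theorem weight_spec {f : F[X]} (hf : TorusPoly f) {r : ℕ} [Fact r.Prime] (hr2 : r ≠ 2) (hrq : ¬ r ∣ Fintype.card F)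
    (h : r ∣ torusExp f) :
    1 ≤ weight f ∧
    ((CfsgLib.Symp.star f = f ∧ f.natDegree = 2 * weight f ∧ Even (orderOf ((Fintype.card F : ℕ) : ZMod r)) ∧
        ∃ t, Odd t ∧ weight f = orderOf ((Fintype.card F : ℕ) : ZMod r) / 2 * t) ∨
      (CfsgLib.Symp.star f ≠ f ∧ f.natDegree = weight f ∧ orderOf ((Fintype.card F : ℕ) : ZMod r) ∣ weight f)) := by
  classical
  unfold weight
  unfold torusExp at h
  rw [Nat.card_eq_fintype_card] at h
  by_cases hs : CfsgLib.Symp.star f = f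
  · obtain ⟨d, hd1, hd, -⟩ := selfStar_spec hf.1 hf.2.1 hf.2.2.1 hs hf.2.2.2.1 hf.2.2.2.2
    rw [if_pos hs, hd, Nat.mul_div_cancel_left d two_pos] at h
    rw [if_pos hs, hd, Nat.mul_div_cancel_left d two_pos]
    exact ⟨hd1, Or.inl ⟨hs, rfl, (dvd_pow_add_one hr2 hrq h).1, (dvd_pow_add_one hr2 hrq h).2⟩⟩
  · rw [if_neg hs] at h
    rw [if_neg hs]
    exact ⟨hf.1.natDegree_pos, Or.inr ⟨hs, rfl, (dvd_pow_sub_one_iff hrq _).mp h⟩⟩

theorem eta_le_weight {f : F[X]} (hf : TorusPoly f) {r : ℕ} [Fact r.Prime] (hr2 : r ≠ 2) (hrq : ¬ r ∣ Fintype.card F)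
    (h : r ∣ torusExp f) (k η : ℕ) (hk : k = orderOf ((Fintype.card F : ℕ) : ZMod r)) (hη : IsEta k η) :
    η ≤ weight f := by
  obtain ⟨hw, hcase⟩ := weight_spec hf hr2 hrq h
  rw [← hk] at hcase
  rcases hcase with ⟨-, -, he, t, ht, hwt⟩ | ⟨-, -, hdvd⟩
  · rcases hη with ⟨ho, -⟩ | ⟨-, hη⟩
    · exact absurd he (Nat.not_even_iff_odd.mpr ho)
    · rw [hwt, show k / 2 = η by omega]
      exact Nat.le_mul_of_pos_right η ht.pos
  · have := Nat.le_of_dvd hw hdvd
    rcases hη with ⟨-, rfl⟩ | ⟨-, hη⟩ <;> omega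

variable [DecidableEq F]

theorem orbit_sum {g : Sp[n, F]} {f : F[X]} (hfs : f ∈ normalizedFactors (g : Matrix (Fin n ⊕ Fin n) (Fin n ⊕ Fin n) F).charpoly)
    (hf : TorusPoly f) :
    ∑ h ∈ ({f, CfsgLib.Symp.star f} : Finset F[X]),
        (normalizedFactors (g : Matrix (Fin n ⊕ Fin n) (Fin n ⊕ Fin n) F).charpoly).count h * h.natDegree =
      2 * ((normalizedFactors (g : Matrix (Fin n ⊕ Fin n) (Fin n ⊕ Fin n) F).charpoly).count f * weight f) := by
  classical
  obtain ⟨-, -, hst⟩ := factors_spec g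
  unfold weight
  by_cases hs : CfsgLib.Symp.star f = f
  · obtain ⟨d, -, hd, -⟩ := selfStar_spec hf.1 hf.2.1 hf.2.2.1 hs hf.2.2.2.1 hf.2.2.2.2
    rw [hs, Finset.pair_eq_singleton, Finset.sum_singleton, if_pos rfl, hd, Nat.mul_div_cancel_left d two_pos]
    ring
  · rw [Finset.sum_pair (fun h => hs h.symm), (hst f hfs).2, natDegree_star hf.2.2.1, if_neg hs]
    ring

theorem count_weight_le {g : Sp[n, F]} {f : F[X]}
    (hfs : f ∈ normalizedFactors (g : Matrix (Fin n ⊕ Fin n) (Fin n ⊕ Fin n) F).charpoly) (hf : TorusPoly f) :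
    (normalizedFactors (g : Matrix (Fin n ⊕ Fin n) (Fin n ⊕ Fin n) F).charpoly).count f * weight f ≤ n := by
  have h := sum_count_natDegree (g : Matrix (Fin n ⊕ Fin n) (Fin n ⊕ Fin n) F) {f, CfsgLib.Symp.star f}
  rw [orbit_sum hfs hf, Fintype.card_sum, Fintype.card_fin] at h
  omega

omit [DecidableEq F] in
/-- A factor of a power-of-`N` element (`N` odd) other than `X - 1` is a torus polynomial. -/
theorem torusPoly_of_dvd {f : F[X]} (hi : Irreducible f) (hm : f.Monic) (h0 : f.coeff 0 ≠ 0) {N : ℕ} (hN : Odd N)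
    (h : f ∣ X ^ N - 1) (h1 : f ≠ X - 1) : TorusPoly f := by
  refine ⟨hi, hm, h0, h1, fun h2 => ?_⟩
  obtain ⟨c, hc⟩ := h
  have h3 := congrArg (eval (-1 : F)) hc
  rw [eval_mul, show eval (-1 : F) f = 0 by rw [h2]; simp, zero_mul, eval_sub, eval_pow, eval_X, eval_one,
    hN.neg_one_pow] at h3
  have h4 : (-1 : F) = 1 := by linear_combination h3
  exact h1 (by rw [h2, sub_eq_add_neg, ← C_1, ← map_neg, h4])

/-- An element of odd order not killed by a power of `p` has a torus factor. -/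
theorem exists_torus_factor (p : ℕ) [Fact p.Prime] [CharP F p] (hn : 0 < n) (g : Sp[n, F]) (L : ℕ) (hL : Odd L)
    (hfac : ∀ f ∈ normalizedFactors (g : Matrix (Fin n ⊕ Fin n) (Fin n ⊕ Fin n) F).charpoly, f ∣ X ^ L - 1)
    (hg : ¬ ∃ c, orderOf g ∣ p ^ c) :
    ∃ f ∈ normalizedFactors (g : Matrix (Fin n ⊕ Fin n) (Fin n ⊕ Fin n) F).charpoly, TorusPoly f := by
  classical
  have : Nonempty (Fin n ⊕ Fin n) := ⟨Sum.inl ⟨0, hn⟩⟩
  obtain ⟨hmem, -, -⟩ := factors_spec g
  by_contra hne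
  push Not at hne
  have hall : ∀ f ∈ normalizedFactors (g : Matrix (Fin n ⊕ Fin n) (Fin n ⊕ Fin n) F).charpoly, f = X - 1 := fun f hf =>
    by_contra fun h => hne f hf (torusPoly_of_dvd (hmem f hf).1 (hmem f hf).2.1 (hmem f hf).2.2 hL (hfac f hf) h)
  refine hg ⟨Nat.clog p (n + n), orderOf_dvd_of_pow_eq_one (Subtype.ext ?_)⟩
  rw [SubmonoidClass.coe_pow, OneMemClass.coe_one]
  have h := CfsgLib.GLOrders.pow_eq_scalar_of_factors p (g : Matrix (Fin n ⊕ Fin n) (Fin n ⊕ Fin n) F) 1 (n + n)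
    (Nat.clog p (n + n)) 1 (Nat.le_pow_clog (Fact.out : p.Prime).one_lt _)
    (fun f hf => by rw [hall f hf, pow_one, map_one]) (fun f hf => by
      have h1 := sum_count_natDegree (g : Matrix (Fin n ⊕ Fin n) (Fin n ⊕ Fin n) F) {f}
      rw [Finset.sum_singleton, Fintype.card_sum, Fintype.card_fin] at h1
      exact le_trans (Nat.le_mul_of_pos_right _ (hmem f hf).1.natDegree_pos) h1)
  rwa [one_mul, one_pow, one_smul] at h

theorem eta_le_of_dvd_psp (p : ℕ) [Fact p.Prime] [CharP F p] (hn : 0 < n) {r : ℕ} [Fact r.Prime] (hr2 : r ≠ 2)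
    (hrp : r ≠ p) (h : r ∣ Nat.card PS[n, F]) (k η : ℕ) (hk : k = orderOf ((Fintype.card F : ℕ) : ZMod r))
    (hη : IsEta k η) : η ≤ n := by
  classical
  have hr : r.Prime := Fact.out
  obtain ⟨x, hx⟩ := exists_prime_orderOf_dvd_card' (G := PS[n, F]) r h
  obtain ⟨g0, rfl⟩ := QuotientGroup.mk_surjective x
  obtain ⟨g, hg⟩ := CfsgLib.GLOrders.exists_orderOf_eq_of_dvd (orderOf_pos g0)
    (hx ▸ orderOf_map_dvd (QuotientGroup.mk' (Subgroup.center Sp[n, F])) g0)
  obtain ⟨hmem, -, -⟩ := factors_spec g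
  have : Nonempty (Fin n ⊕ Fin n) := ⟨Sum.inl ⟨0, hn⟩⟩
  have hfac : ∀ f ∈ normalizedFactors (g : Matrix (Fin n ⊕ Fin n) (Fin n ⊕ Fin n) F).charpoly, f ∣ X ^ r - 1 := fun f hf =>
    factor_dvd_of_pow_eq_one p _ r 0 (by
      rw [pow_zero, mul_one, ← SubmonoidClass.coe_pow, ← hg, pow_orderOf_eq_one, OneMemClass.coe_one]) (hmem f hf).1
      (dvd_of_mem_normalizedFactors hf)
  obtain ⟨f, hf, hfT⟩ := exists_torus_factor p hn g r (hr.odd_of_ne_two hr2) hfac (by
    rintro ⟨c, hc⟩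
    exact hrp ((Nat.prime_dvd_prime_iff_eq hr Fact.out).mp (hr.dvd_of_dvd_pow (hg ▸ hc))))
  have h1 := eta_le_weight hfT hr2 (not_dvd_card p hr hrp) (prime_dvd_torusExp hfT hr (i := 1) (by rw [pow_one]; exact hfac f hf)) k η hk hη
  have h2 := count_weight_le hf hfT
  have h3 := Nat.le_mul_of_pos_left (weight f) (Multiset.count_pos.mpr hf)
  omega

/-- Two odd primes. -/
theorem psp_rs_iff (p : ℕ) [Fact p.Prime] [CharP F p] (hn : 2 ≤ n) {r s : ℕ} [Fact r.Prime] [Fact s.Prime]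
    (hr2 : r ≠ 2) (hs2 : s ≠ 2) (hrp : r ≠ p) (hsp : s ≠ p) (hrs : r ≠ s) (hsG : s ∣ Nat.card PS[n, F])
    (k l ηk ηl : ℕ) (hk : k = orderOf ((Fintype.card F : ℕ) : ZMod r)) (hl : l = orderOf ((Fintype.card F : ℕ) : ZMod s))
    (hηk : IsEta k ηk) (hηl : IsEta l ηl) (hkl : ηk ≤ ηl) :
    (∃ x : PS[n, F], orderOf x = r * s) ↔ ¬ (n < ηk + ηl ∧ ¬ ∃ t : ℕ, Odd t ∧ l = k * t) := by
  classical
  have hr : r.Prime := Fact.out
  have hs : s.Prime := Fact.out
  have hrq := not_dvd_card (F := F) p hr hrp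
  have hsq := not_dvd_card (F := F) p hs hsp
  have hodd : Odd (r * s) := (hr.odd_of_ne_two hr2).mul (hs.odd_of_ne_two hs2)
  have hk1 : 1 ≤ k := hk ▸ orderOf_zmod_pos hrq
  have hl1 : 1 ≤ l := hl ▸ orderOf_zmod_pos hsq
  constructor
  · rintro ⟨x, hx⟩ ⟨hnkl, hndvd⟩
    obtain ⟨g0, rfl⟩ := QuotientGroup.mk_surjective x
    obtain ⟨g, hg⟩ := CfsgLib.GLOrders.exists_orderOf_eq_of_dvd (orderOf_pos g0)
      (hx ▸ orderOf_map_dvd (QuotientGroup.mk' (Subgroup.center Sp[n, F])) g0)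
    obtain ⟨hmem, -, hst⟩ := factors_spec g
    have : Nonempty (Fin n ⊕ Fin n) := ⟨Sum.inl ⟨0, by omega⟩⟩
    set s' := normalizedFactors (g : Matrix (Fin n ⊕ Fin n) (Fin n ⊕ Fin n) F).charpoly with hs'
    have hfac : ∀ f ∈ s', f ∣ X ^ (r * s) - 1 := fun f hf =>
      factor_dvd_of_pow_eq_one p _ (r * s) 0 (by
        rw [pow_zero, mul_one, ← SubmonoidClass.coe_pow, ← hg, pow_orderOf_eq_one, OneMemClass.coe_one]) (hmem f hf).1
        (dvd_of_mem_normalizedFactors hf)
    by_cases hbig : ∃ f ∈ s', ¬ f ∣ X ^ r - 1 ∧ ¬ f ∣ X ^ s - 1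
    · obtain ⟨f, hf, hfr, hfs⟩ := hbig
      have hT : TorusPoly f := torusPoly_of_dvd (hmem f hf).1 (hmem f hf).2.1 (hmem f hf).2.2 hodd (hfac f hf)
        (fun h => hfr (by rw [h]; exact sub_one_dvd_pow_sub_one _ r))
      have hd := dvd_X_pow_gcd (hfac f hf) (torusExp_dvd hT)
      have hrT : r ∣ torusExp f := by
        by_contra hnd
        apply hfs
        refine hd.trans ?_
        obtain ⟨c, hc⟩ := ((hr.coprime_iff_not_dvd.mpr hnd).symm.coprime_dvd_left
          (Nat.gcd_dvd_right (r * s) _)).dvd_of_dvd_mul_left (Nat.gcd_dvd_left _ _)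
        nth_rw 2 [hc]
        rw [pow_mul]
        exact sub_one_dvd_pow_sub_one _ c
      have hsT : s ∣ torusExp f := by
        by_contra hnd
        apply hfr
        refine hd.trans ?_
        obtain ⟨c, hc⟩ := ((hs.coprime_iff_not_dvd.mpr hnd).symm.coprime_dvd_left
          (Nat.gcd_dvd_right (r * s) _)).dvd_of_dvd_mul_right (Nat.gcd_dvd_left _ _)
        nth_rw 2 [hc]
        rw [pow_mul]
        exact sub_one_dvd_pow_sub_one _ c
      have hwn : weight f ≤ n := le_trans (Nat.le_mul_of_pos_left _ (Multiset.count_pos.mpr hf)) (count_weight_le hf hT)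
      obtain ⟨hw1, hcr⟩ := weight_spec hT hr2 hrq hrT
      obtain ⟨-, hcs⟩ := weight_spec hT hs2 hsq hsT
      rw [← hk] at hcr
      rw [← hl] at hcs
      rcases hcr with ⟨hself, -, hke, t1, ht1, hw⟩ | ⟨hns, -, hkw⟩
      · rcases hcs with ⟨-, -, hle, t2, ht2, hw'⟩ | ⟨hns, -⟩
        · have e1 : k / 2 = ηk := by
            rcases hηk with ⟨ho, -⟩ | ⟨-, h⟩
            · exact absurd hke (Nat.not_even_iff_odd.mpr ho)
            · omega
          have e2 : l / 2 = ηl := by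
            rcases hηl with ⟨ho, -⟩ | ⟨-, h⟩
            · exact absurd hle (Nat.not_even_iff_odd.mpr ho)
            · omega
          rw [e1] at hw
          rw [e2] at hw'
          have h1 : ηl * t2 < ηl * 2 := by omega
          have h2 := Nat.lt_of_mul_lt_mul_left h1
          have h3 := ht2.pos
          have h4 : t2 = 1 := by omega
          refine hndvd ⟨t1, ht1, ?_⟩
          obtain ⟨a, ha⟩ := hke
          obtain ⟨b, hb⟩ := hle
          rw [h4, mul_one] at hw'
          rw [ha, Nat.add_mul]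
          rw [show ηk = a by omega] at hw
          omega
        · exact hns hself
      · rcases hcs with ⟨hself, -⟩ | ⟨-, -, hlw⟩
        · exact hns hself
        · have hlle := Nat.le_of_dvd hw1 hlw
          rcases hηl with ⟨hlo, hηl⟩ | ⟨-, hηl⟩
          · obtain ⟨c, hc⟩ := hlw
            have hc0 : c ≠ 0 := by rintro rfl; omega
            have h1 : l * c < l * 2 := by omega
            have h2 := Nat.lt_of_mul_lt_mul_left h1
            rw [show c = 1 by omega, mul_one] at hc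
            obtain ⟨t, ht⟩ := hc ▸ hkw
            exact hndvd ⟨t, (Nat.odd_mul.mp (ht ▸ hlo)).2, ht⟩
          · omega
    · push Not at hbig
      have hex : ∀ (u v : ℕ), u.Prime → v.Prime → u ≠ v → u ≠ p → u ≠ 2 → u * v = r * s →
          (∀ f ∈ s', f ∣ X ^ u - 1 ∨ f ∣ X ^ v - 1) →
          ∃ f ∈ s', f ∣ X ^ u - 1 ∧ f ≠ X - 1 := by
        intro u v hu hv huv hup hu2 huvrs hall
        by_contra hne
        push Not at hne
        have hallv : ∀ f ∈ s', f ∣ X ^ v - C 1 := by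
          intro f hf
          rw [map_one]
          rcases hall f hf with h | h
          · rw [hne f hf h]; exact sub_one_dvd_pow_sub_one _ v
          · exact h
        have h2 := CfsgLib.GLOrders.pow_eq_scalar_of_factors p (g : Matrix (Fin n ⊕ Fin n) (Fin n ⊕ Fin n) F) v (n + n)
          (Nat.clog p (n + n)) 1 (Nat.le_pow_clog (Fact.out : p.Prime).one_lt _) hallv (fun f hf => by
            have h1 := sum_count_natDegree (g : Matrix (Fin n ⊕ Fin n) (Fin n ⊕ Fin n) F) {f}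
            rw [Finset.sum_singleton, Fintype.card_sum, Fintype.card_fin] at h1
            exact le_trans (Nat.le_mul_of_pos_right _ (hmem f hf).1.natDegree_pos) h1)
        rw [one_pow, one_smul] at h2
        have h3 := orderOf_dvd_of_pow_eq_one (x := g) (n := v * p ^ Nat.clog p (n + n))
          (Subtype.ext (by rw [SubmonoidClass.coe_pow, h2, OneMemClass.coe_one]))
        rw [hg, ← huvrs] at h3
        rcases hu.dvd_mul.mp ((dvd_mul_right u v).trans h3) with h | h
        · exact huv ((Nat.prime_dvd_prime_iff_eq hu hv).mp h)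
        · exact hup ((Nat.prime_dvd_prime_iff_eq hu Fact.out).mp (hu.dvd_of_dvd_pow h))
      obtain ⟨f1, hf1, hf1r, hf1n⟩ := hex r s hr hs hrs hrp hr2 rfl (fun f hf => or_iff_not_imp_left.mpr (hbig f hf))
      obtain ⟨f2, hf2, hf2s, hf2n⟩ := hex s r hs hr hrs.symm hsp hs2 (mul_comm s r)
        (fun f hf => (or_iff_not_imp_left.mpr (hbig f hf)).symm)
      have hT1 := torusPoly_of_dvd (hmem f1 hf1).1 (hmem f1 hf1).2.1 (hmem f1 hf1).2.2 (hr.odd_of_ne_two hr2) hf1r hf1n
      have hT2 := torusPoly_of_dvd (hmem f2 hf2).1 (hmem f2 hf2).2.1 (hmem f2 hf2).2.2 (hs.odd_of_ne_two hs2) hf2s hf2n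
      have hne : ∀ h : F[X], h ∣ X ^ r - 1 → h ∣ X ^ s - 1 → TorusPoly h → False := by
        intro h h1 h2 hT
        have := dvd_X_pow_gcd h1 h2
        rw [(Nat.coprime_primes hr hs).mpr hrs, pow_one] at this
        exact hT.2.2.2.1 (eq_of_monic_of_associated hT.2.1 (by simpa using monic_X_sub_C (1 : F))
          (hT.1.associated_of_dvd (by simpa using irreducible_X_sub_C (1 : F)) this))
      have hstar : ∀ (h : F[X]) (N : ℕ), 0 < N → TorusPoly h → h ∣ X ^ N - 1 → CfsgLib.Symp.star h ∣ X ^ N - 1 := by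
        intro h N hN hT h1
        have := star_dvd hT.1.ne_zero hN (one_mul (1 : F)) (by rwa [map_one])
        rwa [map_one] at this
      have hdis : Disjoint ({f1, CfsgLib.Symp.star f1} : Finset F[X]) {f2, CfsgLib.Symp.star f2} := by
        rw [Finset.disjoint_left]
        intro h h1 h2
        simp only [Finset.mem_insert, Finset.mem_singleton] at h1 h2
        have a1 : h ∣ X ^ r - 1 ∧ TorusPoly h := by
          rcases h1 with rfl | rfl
          exacts [⟨hf1r, hT1⟩, ⟨hstar f1 r hr.pos hT1 hf1r, hT1.star⟩]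
        have a2 : h ∣ X ^ s - 1 := by
          rcases h2 with rfl | rfl
          exacts [hf2s, hstar f2 s hs.pos hT2 hf2s]
        exact hne h a1.1 a2 a1.2
      have h1 := sum_count_natDegree (g : Matrix (Fin n ⊕ Fin n) (Fin n ⊕ Fin n) F)
        ({f1, CfsgLib.Symp.star f1} ∪ {f2, CfsgLib.Symp.star f2})
      rw [Finset.sum_union hdis, orbit_sum hf1 hT1, orbit_sum hf2 hT2, Fintype.card_sum, Fintype.card_fin, ← hs'] at h1
      have e1 := eta_le_weight hT1 hr2 hrq (prime_dvd_torusExp hT1 hr (i := 1) (by rwa [pow_one])) k ηk hk hηk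
      have e2 := eta_le_weight hT2 hs2 hsq (prime_dvd_torusExp hT2 hs (i := 1) (by rwa [pow_one])) l ηl hl hηl
      have := Nat.le_mul_of_pos_left (weight f1) (Multiset.count_pos.mpr hf1)
      have := Nat.le_mul_of_pos_left (weight f2) (Multiset.count_pos.mpr hf2)
      omega
  · intro h
    have hln : ηl ≤ n := eta_le_of_dvd_psp p (by omega) hs2 hsp hsG l ηl hl hηl
    by_cases hnkl : n < ηk + ηl
    · obtain ⟨t, ht, hlt⟩ : ∃ t : ℕ, Odd t ∧ l = k * t := by_contra fun h' => h ⟨hnkl, h'⟩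
      obtain ⟨x, hx⟩ : ∃ x : Sp[ηl, F], r * s ∣ orderOf x := by
        rcases hηl with ⟨hlo, rfl⟩ | ⟨hle, hη⟩
        · obtain ⟨x, hx⟩ := exists_torus_minus (F := F) ηl hl1
          refine ⟨x, ?_⟩
          rw [hx, Nat.card_eq_fintype_card]
          exact ((Nat.coprime_primes hr hs).mpr hrs).mul_dvd_of_dvd_of_dvd
            ((dvd_pow_sub_one_iff hrq _).mpr (by rw [← hk, hlt]; exact dvd_mul_right _ _))
            ((dvd_pow_sub_one_iff hsq _).mpr (by rw [← hl]))
        · obtain ⟨x, hx⟩ := exists_torus_plus (F := F) ηl (by omega)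
          refine ⟨x, ?_⟩
          rw [hx, Nat.card_eq_fintype_card]
          have hke : Even k := by
            by_contra hko
            exact Nat.not_even_iff_odd.mpr (hlt ▸ (Nat.not_even_iff_odd.mp hko).mul ht) hle
          refine ((Nat.coprime_primes hr hs).mpr hrs).mul_dvd_of_dvd_of_dvd ?_ ?_
          · have h1 := dvd_pow_add_one_of (r := r) hrq ht (hk ▸ hke)
            obtain ⟨a, ha⟩ := hke
            rw [← hk, ha, show (a + a) / 2 = a by omega] at h1
            rw [show ηl = a * t by rw [ha, Nat.add_mul] at hlt; omega]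
            exact h1
          · have h1 := dvd_pow_add_one_of (r := s) hsq odd_one (hl ▸ hle)
            rwa [← hl, mul_one, show l / 2 = ηl by omega] at h1
      obtain ⟨g, hg⟩ := exists_sp_sum (n := n) (show ηl + 0 ≤ n by omega) x (1 : Sp[0, F])
      exact psp_order_of_sp (by omega) (x := g) (by rw [hg, orderOf_one, Nat.lcm_one_right]; exact hx) (Or.inl hodd)
    · obtain ⟨x, hx⟩ := exists_torus_eta (r := r) hrq k ηk hk hηk
      obtain ⟨y, hy⟩ := exists_torus_eta (r := s) hsq l ηl hl hηl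
      obtain ⟨g, hg⟩ := exists_sp_sum (n := n) (show ηk + ηl ≤ n by omega) x y
      refine psp_order_of_sp (by omega) (x := g) ?_ (Or.inl hodd)
      rw [hg]
      exact ((Nat.coprime_primes hr hs).mpr hrs).mul_dvd_of_dvd_of_dvd (hx.trans (Nat.dvd_lcm_left _ _)) (hy.trans (Nat.dvd_lcm_right _ _))

/-- An odd prime and the characteristic. -/
theorem psp_rp_iff (p : ℕ) [Fact p.Prime] [CharP F p] (hn : 2 ≤ n) {r : ℕ} [Fact r.Prime] (hr2 : r ≠ 2) (hrp : r ≠ p)
    (k η : ℕ) (hk : k = orderOf ((Fintype.card F : ℕ) : ZMod r)) (hη : IsEta k η) :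
    (∃ x : PS[n, F], orderOf x = r * p) ↔ ¬ (n - 1 < η) := by
  classical
  have hr : r.Prime := Fact.out
  have hp : p.Prime := Fact.out
  have hrq := not_dvd_card (F := F) p hr hrp
  have : Nonempty (Fin n ⊕ Fin n) := ⟨Sum.inl ⟨0, by omega⟩⟩
  constructor
  · rintro ⟨x, hx⟩ hbad
    obtain ⟨g, i, j, hg, hgx⟩ := exists_lift_two (QuotientGroup.mk' (Subgroup.center Sp[n, F]))
      (QuotientGroup.mk'_surjective _) hr hp x hx
    have hgord : r * p ∣ orderOf g := hgx ▸ orderOf_map_dvd _ g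
    obtain ⟨hmem, -, hst⟩ := factors_spec g
    set s' := normalizedFactors (g : Matrix (Fin n ⊕ Fin n) (Fin n ⊕ Fin n) F).charpoly with hs'
    have hfac : ∀ f ∈ s', f ∣ X ^ (r ^ i) - 1 := fun f hf =>
      factor_dvd_of_pow_eq_one p _ (r ^ i) j (by
        rw [← SubmonoidClass.coe_pow, ← hg, pow_orderOf_eq_one, OneMemClass.coe_one]) (hmem f hf).1
        (dvd_of_mem_normalizedFactors hf)
    obtain ⟨f, hf, hfT⟩ := exists_torus_factor p (by omega) g (r ^ i) ((hr.odd_of_ne_two hr2).pow) hfac (by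
      rintro ⟨c, hc⟩
      exact hrp ((Nat.prime_dvd_prime_iff_eq hr hp).mp (hr.dvd_of_dvd_pow ((dvd_mul_right r p).trans (hgord.trans hc)))))
    obtain ⟨f₀, hf₀, hf₀2⟩ : ∃ f ∈ s', 2 ≤ s'.count f := by
      by_contra hne
      push Not at hne
      have h2 := CfsgLib.GLOrders.pow_eq_scalar_of_factors p (g : Matrix (Fin n ⊕ Fin n) (Fin n ⊕ Fin n) F) (r ^ i) 1 0 1 (by simp)
        (fun f hf => by rw [map_one]; exact hfac f hf) (fun f hf => Nat.le_of_lt_succ (hne f hf))
      rw [pow_zero, mul_one, one_pow, one_smul] at h2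
      have h3 := orderOf_dvd_of_pow_eq_one (x := g) (n := r ^ i)
        (Subtype.ext (by rw [SubmonoidClass.coe_pow, h2, OneMemClass.coe_one]))
      exact hrp ((Nat.prime_dvd_prime_iff_eq hp hr).mp (hp.dvd_of_dvd_pow ((dvd_mul_left p r).trans (hgord.trans h3)))).symm
    have hw := eta_le_weight hfT hr2 hrq (prime_dvd_torusExp hfT hr (hfac f hf)) k η hk hη
    have hk1 : 1 ≤ k := hk ▸ orderOf_zmod_pos hrq
    have hη1 : 1 ≤ η := by rcases hη with ⟨-, rfl⟩ | ⟨-, h⟩ <;> omega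
    have hc := count_weight_le hf hfT
    rw [← hs'] at hc
    by_cases hc2 : 2 ≤ s'.count f
    · have := Nat.mul_le_mul hc2 hw
      omega
    · have hnm : f₀ ∉ ({f, CfsgLib.Symp.star f} : Finset F[X]) := by
        intro h
        simp only [Finset.mem_insert, Finset.mem_singleton] at h
        rcases h with rfl | rfl
        · exact hc2 hf₀2
        · exact hc2 ((hst f hf).2 ▸ hf₀2)
      have h1 := sum_count_natDegree (g : Matrix (Fin n ⊕ Fin n) (Fin n ⊕ Fin n) F) (insert f₀ {f, CfsgLib.Symp.star f})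
      rw [Finset.sum_insert hnm, orbit_sum hf hfT, Fintype.card_sum, Fintype.card_fin, ← hs'] at h1
      have := Nat.mul_le_mul hf₀2 ((hmem f₀ hf₀).1.natDegree_pos : 1 ≤ f₀.natDegree)
      have : weight f ≤ s'.count f * weight f := Nat.le_mul_of_pos_left (weight f) (Multiset.count_pos.mpr hf)
      omega
  · intro h
    obtain ⟨x, hx⟩ := exists_torus_eta (r := r) hrq k η hk hη
    obtain ⟨u, hu⟩ := exists_unipotent (F := F) p 1 1 le_rfl (by rw [pow_one]; exact hp.two_le)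
      (fun j hj => by rw [show j = 0 by omega]; simp)
    obtain ⟨g, hg⟩ := exists_sp_sum (n := n) (show η + 1 ≤ n by omega) x u
    refine psp_order_of_sp (by omega) (x := g) ?_ ?_
    · rw [hg, hu, pow_one]
      exact ((Nat.coprime_primes hr hp).mpr hrp).mul_dvd_of_dvd_of_dvd (hx.trans (Nat.dvd_lcm_left _ _)) (Nat.dvd_lcm_right _ _)
    · by_cases hp2 : p = 2
      · subst hp2
        right
        exact CharP.cast_eq_zero F 2
      · left; exact (hr.odd_of_ne_two hr2).mul (hp.odd_of_ne_two hp2)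

end CfsgLib.GraphLie
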